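import Cfsg.Agent.Lib.Recog.TwE6Fi22.Packed
import Cfsg.Agent.Lib.Recog.TwE6Fi22.Data

set_option autoImplicit false
set_option maxRecDepth 20000

/-! The certificates for Fi22 inside the twisted group of type E6 over two elements, as functions (owner: helper22). -/

namespace CfsgLib.Recog.TwE6Fi22

/-- A root element matrix. -/
noncomputable def rootM (k : ℕ) : ℕ × ℕ := rootMats.getD k (0, 0)

/-- A generator matrix. -/
noncomputable def genM (k : ℕ) : ℕ × ℕ := genMats.getD k (0, 0)

/-- A transposition matrix. -/
noncomputable def imgM (k : ℕ) : ℕ × ℕ := imgMats.getD k (0, 0)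

/-- The label of two numbered nodes of the diagram. -/
def lab (x y : ℕ) : ℕ :=
  bif x == y then 1 else
    bif [(0, 1), (1, 2), (2, 3), (3, 4), (4, 5), (5, 6), (3, 7), (7, 8)].contains (x, y) then 3 else 2

/-- The unordered pairs of nodes. -/
def nodePairs : List (ℕ × ℕ) :=
  (List.range 9).flatMap fun x => ((List.range 9).filter fun y => x ≤ y).map fun y => (x, y)

/-- The words of the relators. -/
def relList : List (List ℕ) :=
  (nodePairs.map fun p => (List.replicate (lab p.1 p.2) [p.1, p.2]).flatten) ++
    [(List.replicate 10 [3, 2, 1, 3, 4, 5, 3, 7, 8]).flatten, (List.replicate 9 [0, 1, 2, 3, 4, 5, 7]).flatten,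
      (List.replicate 9 [1, 2, 3, 4, 5, 6, 7]).flatten]

/-- The element of the algebra. -/
noncomputable def algM : ℕ × ℕ := addP (addP (evalP imgM algWords.1) (evalP imgM algWords.2)) algShift

/-- A column of a packed matrix. -/
noncomputable def colP (P : ℕ × ℕ) (k : ℕ) : ℕ × ℕ := (colBits P.1 k, colBits P.2 k)

end CfsgLib.Recog.TwE6Fi22
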