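import Cfsg.Agent.Lib.Lie.RegularCoef.F4InTwistedE6

set_option autoImplicit false
set_option maxRecDepth 20000

/-!
The diagonal matrices of order three normalising the twisted group of type E6 over two elements, and their being outer
even up to scalars (owner: helper22).
-/

namespace CfsgLib.Recog.TwE6Fi22

open Cfsg.Lie (chevE6 twistedE6)
open CfsgLib.Lie.Chev CfsgLib.Known CfsgLib.Lie.RegularCoef
open CfsgLib.Known.ChevFold (HasCoef hasCoef_unique ht)

variable {K : Type*} [Field K]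

/-- The character. -/
noncomputable def chr (u : Kˣ) (m : ℕ) : ℕ → Kˣ := ChevAut.chi auxE6 (cval3 u m)

theorem chr_char (u : Kˣ) (m : ℕ) : chevE6.IsRootCharacter (chr u m) := ChevAut.isRootCharacter_chi certE6 _

/-- The diagonal matrix. -/
noncomputable def dd (u : Kˣ) (m : ℕ) : GL chevE6.Idx K := ChevAut.dGL (D := chevE6) (chr u m)

theorem chr_mul (u : Kˣ) (a b r : ℕ) : chr u a r * chr u b r = chr u (a + b) r := by
  rw [chr, chr, chr, ChevAut.chi, ChevAut.chi, ChevAut.chi, ← Finset.prod_mul_distrib]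
  refine Finset.prod_congr rfl fun i _ => ?_
  rw [← mul_zpow]
  congr 1
  simp only [cval3]
  split_ifs <;> simp [pow_add, Nat.mul_add]

theorem dd_mul (u : Kˣ) (a b : ℕ) : dd u a * dd u b = dd u (a + b) := by
  refine Units.ext ?_
  show chevE6.charDiag K (chr u a) * chevE6.charDiag K (chr u b) = chevE6.charDiag K (chr u (a + b))
  rw [Cfsg.Lie.ChevalleyDatum.charDiag, Cfsg.Lie.ChevalleyDatum.charDiag, Cfsg.Lie.ChevalleyDatum.charDiag,
    Matrix.diagonal_mul_diagonal]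
  congr 1
  funext x
  cases x with
  | inl i => simp
  | inr r => simp only [Sum.elim_inr, ← Units.val_mul, chr_mul]

theorem chr_three {u : Kˣ} (hu : u ^ 3 = 1) {m : ℕ} (hm : 3 ∣ m) (r : ℕ) : chr u m r = 1 := by
  obtain ⟨k, rfl⟩ := hm
  rw [chr, ChevAut.chi]
  refine Finset.prod_eq_one fun i _ => ?_
  have : cval3 u (3 * k) i = 1 := by
    simp only [cval3]
    split_ifs
    · rw [pow_mul, hu, one_pow]
    · rw [← mul_assoc, mul_comm 2 3, mul_assoc, pow_mul, hu, one_pow]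
    · rfl
  rw [this, one_zpow]

theorem dd_three {u : Kˣ} (hu : u ^ 3 = 1) {m : ℕ} (hm : 3 ∣ m) : dd u m = 1 := by
  refine Units.ext ?_
  show chevE6.charDiag K (chr u m) = (1 : Matrix chevE6.Idx chevE6.Idx K)
  rw [Cfsg.Lie.ChevalleyDatum.charDiag, ← Matrix.diagonal_one]
  congr 1
  funext x
  cases x with
  | inl i => rfl
  | inr r => simp only [Sum.elim_inr, chr_three hu hm, Units.val_one]

/-- The automorphism. -/
noncomputable def dAut (u : Kˣ) (m : ℕ) : MulAut ↥(chevE6.group K) :=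
  ChevAut.diagAut certE6 ChevDiag.stepsE6 (chr_char u m)

theorem dAut_val (u : Kˣ) (m : ℕ) (g : ↥(chevE6.group K)) :
    ((dAut u m g : ↥(chevE6.group K)) : GL chevE6.Idx K) = dd u m * g * (dd u m)⁻¹ := rfl

theorem dAut_xG (u : Kˣ) (m : ℕ) {r : ℕ} (hr : r < chevE6.nroots) (t : K) :
    dAut u m (xG certE6 K r t) = xG certE6 K r ((chr u m r : K) * t) :=
  ChevAut.diagAut_xe certE6 ChevDiag.stepsE6 (chr_char u m) hr t

theorem chr_values (u : Kˣ) (m : ℕ) :
    (chr u m 46 = 1 ∧ chr u m 25 = 1 ∧ chr u m 39 = 1 ∧ chr u m 32 = 1) ∧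
    (chr u m 56 = 1 ∧ chr u m 36 = 1 ∧ chr u m 15 = 1 ∧ chr u m 35 = 1) ∧
    (chr u m 42 = u ^ m ∧ chr u m 37 = u ^ (2 * m) ∧ chr u m 29 = (u ^ m)⁻¹ ∧ chr u m 34 = (u ^ (2 * m))⁻¹) := by
  have hs := simple_roots
  simp only [List.range_succ, List.range_zero, List.nil_append, List.cons_append, List.map_cons, List.map_nil,
    List.cons.injEq, and_true] at hs
  obtain ⟨⟨s0, s1, s2, s3, s4, s5⟩, n0, n1, n2, n3, n4, n5⟩ := hs
  have hrank : chevE6.rank = 6 := by decide +kernel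
  have key : ∀ i (hi : i < chevE6.rank), chr u m (chevE6.simple i) = cval3 u m ⟨i, hi⟩ :=
    fun i hi => ChevAut.chi_simple certE6 _ ⟨i, hi⟩
  have keyn : ∀ i (hi : i < chevE6.rank), chr u m (chevE6.neg (chevE6.simple i)) = (cval3 u m ⟨i, hi⟩)⁻¹ := by
    intro i hi
    rw [(chr_char u m).1 _ (certE6.simple_lt hi), key i hi]
  have a0 := key 0 (by omega); have a1 := key 1 (by omega); have a2 := key 2 (by omega)
  have a3 := key 3 (by omega); have a4 := key 4 (by omega); have a5 := key 5 (by omega)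
  have b0 := keyn 0 (by omega); have b1 := keyn 1 (by omega); have b2 := keyn 2 (by omega)
  have b3 := keyn 3 (by omega); have b4 := keyn 4 (by omega); have b5 := keyn 5 (by omega)
  rw [n0] at b0; rw [n1] at b1; rw [n2] at b2; rw [n3] at b3; rw [n4] at b4; rw [n5] at b5
  rw [s0] at a0; rw [s1] at a1; rw [s2] at a2; rw [s3] at a3; rw [s4] at a4; rw [s5] at a5
  simp [cval3] at a0 a1 a2 a3 a4 a5 b0 b1 b2 b3 b4 b5
  refine ⟨⟨a1, ?_, a3, ?_⟩, ⟨a0, a5, ?_, ?_⟩, a2, a4, ?_, ?_⟩ <;> assumption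

theorem dd_normalises {u : Kˣ} (m : ℕ) {g : GL chevE6.Idx K} (hg : g ∈ twistedE6 K 2) :
    dd u m * g * (dd u m)⁻¹ ∈ twistedE6 K 2 := by
  suffices h : twistedE6 K 2 ≤ (twistedE6 K 2).comap (MulAut.conj (dd u m)).toMonoidHom from h hg
  refine (Subgroup.closure_le _).2 ?_
  rintro g ⟨wd, hwd, e⟩
  show dd u m * g * (dd u m)⁻¹ ∈ twistedE6 K 2
  have hgv : g = ((wordG certE6 wd : ↥(chevE6.group K)) : GL chevE6.Idx K) :=
    Units.ext (e.trans (wordG_val certE6 wd).symm)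
  rw [hgv, ← dAut_val]
  obtain ⟨⟨v46, v25, v39, v32⟩, ⟨v56, v36, v15, v35⟩, v42, v37, v29, v34⟩ := chr_values u m
  rcases hwd with ⟨t, ht, r, hr, rfl⟩ | ⟨t, rs, hrs, rfl⟩
  · have hlt : r < chevE6.nroots ∧ chr u m r = 1 := by
      simp only [List.mem_cons, List.not_mem_nil, or_false, Cfsg.Lie.e6p2, Cfsg.Lie.e6m2, Cfsg.Lie.e6p4,
        Cfsg.Lie.e6m4] at hr
      rcases hr with rfl | rfl | rfl | rfl <;> exact ⟨by decide +kernel, by assumption⟩
    rw [wordG_cons, wordG_nil, mul_one, dAut_xG u m hlt.1, hlt.2, Units.val_one, one_mul]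
    exact Subgroup.subset_closure ⟨[(r, t)], Or.inl ⟨t, ht, r, hr, rfl⟩,
      by rw [← wordG_val certE6]; simp [wordG_cons, wordG_nil]⟩
  · obtain ⟨hl1, hl2, a, ha1, ha2⟩ : rs.1 < chevE6.nroots ∧ rs.2 < chevE6.nroots ∧
        ∃ a : Kˣ, chr u m rs.1 = a ∧ chr u m rs.2 = a ^ 2 := by
      simp only [List.mem_cons, List.not_mem_nil, or_false, Cfsg.Lie.e6p1, Cfsg.Lie.e6p6, Cfsg.Lie.e6m1,
        Cfsg.Lie.e6m6, Cfsg.Lie.e6p3, Cfsg.Lie.e6p5, Cfsg.Lie.e6m3, Cfsg.Lie.e6m5] at hrs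
      rcases hrs with rfl | rfl | rfl | rfl
      · exact ⟨by decide +kernel, by decide +kernel, 1, v56, by rw [v36, one_pow]⟩
      · exact ⟨by decide +kernel, by decide +kernel, 1, v15, by rw [v35, one_pow]⟩
      · exact ⟨by decide +kernel, by decide +kernel, u ^ m, v42, by rw [v37, ← pow_mul, Nat.mul_comm]⟩
      · exact ⟨by decide +kernel, by decide +kernel, (u ^ m)⁻¹, v29, by rw [v34, inv_pow, ← pow_mul, Nat.mul_comm]⟩
    simp only [wordG_cons, wordG_nil, mul_one, map_mul, dAut_xG u m hl1, dAut_xG u m hl2, ha1, ha2,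
      Units.val_pow_eq_pow_val, ← mul_pow]
    exact Subgroup.subset_closure ⟨[(rs.1, (a : K) * t), (rs.2, ((a : K) * t) ^ 2)], Or.inr ⟨_, rs, hrs, rfl⟩,
      by rw [← wordG_val certE6]; simp [wordG_cons, wordG_nil]⟩

variable [Fintype K]

/-- Conjugation by a diagonal matrix agrees with no inner automorphism, unless its exponent is divisible by three. -/
theorem three_dvd_of_inner {u : Kˣ} (hu : orderOf u = 3) (hcard : Fintype.card K = 4) {m : ℕ}
    (g0 : ↥(chevE6.group K)) (h : ∀ x, dAut u m x = g0 * x * g0⁻¹) : 3 ∣ m := by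
  classical
  have hcube : ∀ a : Kˣ, a ^ 3 = 1 := fun a => by
    rw [← pow_card_eq_one (x := a)]; congr 1; rw [Fintype.card_units, hcard]
  have hrank : chevE6.rank = 6 := by decide +kernel
  obtain ⟨v, hv⟩ : ∃ v, v = (regRoots.map fun s : Fin chevE6.nroots => xG certE6 K (s : ℕ) 1).prod := ⟨_, rfl⟩
  have hsimple : ∀ k : Fin chevE6.rank, ((chevRel certE6 K).sroot k : ℕ) ∈ [56, 46, 42, 39, 37, 36] := by
    intro k
    rw [← simple_roots.1]
    exact List.mem_map.2 ⟨k, List.mem_range.2 (hrank ▸ k.2), rfl⟩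
  have hvc : ∀ k : Fin chevE6.rank, HasCoef certE6 v ((chevRel certE6 K).sroot k) 1 := fun k => by
    have hht : ht chevE6 auxE6 ((chevRel certE6 K).sroot k : ℕ) = 1 := ht_simple certE6 k
    have h1 := (hasCoef_list (F := K) _ hht regRoots (by decide +kernel)).2
    rw [← hv, (by decide +kernel : ∀ r : Fin chevE6.nroots, (r : ℕ) ∈ [56, 46, 42, 39, 37, 36] →
      List.count r regRoots = 1) _ (hsimple k), Nat.cast_one] at h1
    exact h1
  have hvUP : v ∈ (chevRel certE6 K).UP := by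
    rw [hv]
    refine Subgroup.list_prod_mem _ fun y hy => ?_
    obtain ⟨s, hs, rfl⟩ := List.mem_map.1 hy
    exact (chevRel certE6 K).xe_mem_US (S := posSet chevE6)
      ((by decide +kernel : ∀ s ∈ regRoots, half chevE6 ≤ (s : ℕ)) s hs) 1
  have hφ : ∀ k : Fin chevE6.rank, g0 * v * g0⁻¹ ∈ (chevRel certE6 K).UP ∧
      HasCoef certE6 (g0 * v * g0⁻¹) ((chevRel certE6 K).sroot k) (chr u m (chevE6.simple k) : K) := fun k => by
    have hht : ht chevE6 auxE6 ((chevRel certE6 K).sroot k : ℕ) = 1 := ht_simple certE6 k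
    have h1 := coef_scale certE6 posE6 (dAut u m).toMonoidHom (fun s => (chr u m s : K))
      (fun s _ t => dAut_xG u m s.2 t) hvUP hht (hvc k)
    rw [mul_one, MulEquiv.coe_toMonoidHom, h] at h1
    exact h1
  have hB : g0 ∈ (chevRel certE6 K).BS := by
    refine mem_BS_of_regular certE6 posE6 hvUP (fun k t ht' => ?_) (hφ ⟨0, by omega⟩).1
    rw [hasCoef_unique certE6 ht' (hvc k)]; exact one_ne_zero
  obtain ⟨c, hc⟩ := coef_conj_BS certE6 posE6 hB hvUP
  have hrel : ∀ k : Fin chevE6.rank,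
      (∏ i : Fin chevE6.rank, c i ^ chevE6.cartan i (chevE6.simple k) : Kˣ) = chr u m (chevE6.simple k) := by
    intro k
    have hht : ht chevE6 auxE6 ((chevRel certE6 K).sroot k : ℕ) = 1 := ht_simple certE6 k
    have h2 := hc ((chevRel certE6 K).sroot k) hht 1 (hvc k)
    rw [mul_one] at h2
    exact Units.ext (hasCoef_unique certE6 h2 (hφ k).2)
  obtain ⟨wt, hwt⟩ : ∃ wt : Fin chevE6.rank → ℤ, ∀ k : Fin chevE6.rank, wt k = ([1, 0, 2, 0, 1, 2] : List ℤ).getD k 0 :=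
    ⟨_, fun _ => rfl⟩
  have hinv : ∏ k : Fin chevE6.rank, (∏ i : Fin chevE6.rank, c i ^ chevE6.cartan i (chevE6.simple k) : Kˣ) ^ wt k = 1 := by
    simp only [← Finset.prod_zpow, ← zpow_mul]
    rw [Finset.prod_comm]
    refine Finset.prod_eq_one fun i _ => ?_
    obtain ⟨z, hz⟩ := cartan_weights i
    rw [prod_zpow_exp]
    rw [Finset.sum_congr rfl fun (k : Fin chevE6.rank) _ => mul_comm (chevE6.cartan i (chevE6.simple k)) (wt k)]
    simp only [hwt]
    rw [hz, zpow_mul, zpow_ofNat, hcube, one_zpow]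
  have hfinal : ∏ k : Fin chevE6.rank, (chr u m (chevE6.simple k)) ^ wt k = u ^ m := by
    have hχs : ∀ (i : ℕ) (hi : i < chevE6.rank), chr u m (chevE6.simple i) = cval3 u m ⟨i, hi⟩ :=
      fun i hi => ChevAut.chi_simple certE6 _ ⟨i, hi⟩
    rw [← Equiv.prod_comp (finCongr hrank.symm), Fin.prod_univ_six]
    simp only [finCongr_apply, hwt, Fin.val_cast, Fin.val_zero, Fin.val_one, Fin.val_two,
      show ((3 : Fin 6) : ℕ) = 3 from rfl, show ((4 : Fin 6) : ℕ) = 4 from rfl, show ((5 : Fin 6) : ℕ) = 5 from rfl]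
    rw [hχs 0 (by omega), hχs 1 (by omega), hχs 2 (by omega), hχs 3 (by omega), hχs 4 (by omega), hχs 5 (by omega)]
    simp [cval3]
    rw [← pow_mul, ← pow_add, show m * 2 + 2 * m = 3 * m + m by ring, pow_add, pow_mul u 3, hcube, one_pow, one_mul]
  have h1 : u ^ m = 1 := by
    rw [← hfinal, ← hinv]
    exact Finset.prod_congr rfl fun k _ => by rw [hrel]
  rw [← hu]
  exact orderOf_dvd_of_pow_eq_one h1

end CfsgLib.Recog.TwE6Fi22
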