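import Cfsg.Agent.Lib.Recog.TwE6Fi22.Packed
import Cfsg.Agent.Lib.Lie.Chev.All

set_option autoImplicit false
set_option maxRecDepth 20000

/-!
Root elements of the Chevalley group of type E6 over four elements as packed matrices (owner: helper22).
-/

namespace CfsgLib.Recog.TwE6Fi22

open CfsgLib.ThreeTrans.CosetIndex (forallFrom forallFrom_elim)
open CfsgLib.Lie.Chev
open Cfsg.Lie (chevE6)

variable {K : Type*} [Field K]

/-- The element of a code: the two bits. -/
noncomputable def io (w : K) (n : ℕ) : K := bv w (n.testBit 0) (n.testBit 1)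

/-- Products of codes. -/
def mul4 (a b : ℕ) : ℕ :=
  ([[0, 0, 0, 0], [0, 1, 2, 3], [0, 2, 3, 1], [0, 3, 1, 2]].getD a []).getD b 0

/-- Powers of a code. -/
def pow4 (t : ℕ) : ℕ → ℕ
  | 0 => 1
  | n + 1 => mul4 (pow4 t n) t

/-- A multiple by an integer. -/
def par4 (z : ℤ) (t : ℕ) : ℕ := if z % 2 = 0 then 0 else t

/-- The code of a chain coefficient. -/
def chainCode (r s u t : ℕ) : ℕ :=
  ((chevE6.chainEntry r s).zipIdx.map fun q => if q.1.1 = u then par4 q.1.2 (pow4 t (q.2 + 1)) else 0).foldr Nat.xor 0

/-- The code of an entry of a root element. -/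
def entCode (r t i j : ℕ) : ℕ :=
  if j < 6 then
    if i < 6 then (if i = j then 1 else 0) else (if i - 6 = r then par4 (chevE6.cartan j r) t else 0)
  else
    if i < 6 then (if j - 6 = chevE6.neg r then par4 (auxE6.cor i r) t else 0)
    else Nat.xor (Nat.xor (if i = j then 1 else 0) (if j - 6 = chevE6.neg r ∧ i - 6 = r then mul4 t t else 0))
      (chainCode r (j - 6) (i - 6) t)

theorem io_zero (w : K) : io w 0 = 0 := by simp [io, bv]

theorem io_one (w : K) : io w 1 = 1 := by
  rw [io, show Nat.testBit 1 0 = true from rfl, show Nat.testBit 1 1 = false from rfl]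
  simp [bv]

theorem io_xor {w : K} (hw : Omega w) (a b : ℕ) : io w (Nat.xor a b) = io w a + io w b := by
  show bv w ((a ^^^ b).testBit 0) ((a ^^^ b).testBit 1) = _
  rw [Nat.testBit_xor, Nat.testBit_xor]
  exact bv_xor hw _ _ _ _

theorem io_mul {w : K} (hw : Omega w) {a b : ℕ} (ha : a < 4) (hb : b < 4) :
    io w (mul4 a b) = io w a * io w b ∧ mul4 a b < 4 := by
  have key : ∀ a < 4, ∀ b < 4, mul4 a b < 4 ∧
      (mul4 a b).testBit 0 = ((a.testBit 0 && b.testBit 0) ^^ (a.testBit 1 && b.testBit 1)) ∧
      (mul4 a b).testBit 1 =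
        (((a.testBit 0 && b.testBit 1) ^^ (a.testBit 1 && b.testBit 0)) ^^ (a.testBit 1 && b.testBit 1)) := by
    decide +kernel
  obtain ⟨h1, h2, h3⟩ := key a ha b hb
  exact ⟨by rw [io, h2, h3]; exact bv_mul hw _ _ _ _, h1⟩

theorem io_pow {w : K} (hw : Omega w) {t : ℕ} (ht : t < 4) : ∀ n, io w (pow4 t n) = io w t ^ n ∧ pow4 t n < 4
  | 0 => ⟨by rw [pow_zero]; exact io_one w, by show 1 < 4; omega⟩
  | n + 1 => by
    obtain ⟨h1, h2⟩ := io_mul hw (io_pow hw ht n).2 ht
    exact ⟨by rw [pow_succ, ← (io_pow hw ht n).1]; exact h1, h2⟩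

theorem cast_par {w : K} (hw : Omega w) (z : ℤ) (t : ℕ) : io w (par4 z t) = (z : K) * io w t := by
  rcases Int.even_or_odd z with ⟨k, rfl⟩ | ⟨k, rfl⟩
  · rw [par4, if_pos (by omega), io_zero]
    push_cast
    linear_combination -(k : K) * io w t * hw.two
  · rw [par4, if_neg (by omega)]
    push_cast
    linear_combination -(k : K) * io w t * hw.two

theorem io_sum {w : K} (hw : Omega w) : ∀ L : List ℕ, io w (L.foldr Nat.xor 0) = (L.map (io w)).sum
  | [] => by simp [io_zero]
  | a :: L => by rw [List.foldr_cons, io_xor hw, io_sum hw L, List.map_cons, List.sum_cons]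

theorem io_chain {w : K} (hw : Omega w) (r s u : ℕ) {t : ℕ} (ht : t < 4) :
    io w (chainCode r s u t) = chainSum chevE6 r s u (io w t) := by
  rw [chainCode, io_sum hw, chainSum, List.map_map]
  refine congrArg List.sum (List.map_congr_left fun q _ => ?_)
  show io w (if q.1.1 = u then par4 q.1.2 (pow4 t (q.2 + 1)) else 0) = _
  split
  · rw [cast_par hw, (io_pow hw ht _).1]
  · exact io_zero w

theorem neg_self {w : K} (hw : Omega w) (x : K) : -x = x := by linear_combination -x * hw.two

theorem io_entCode {w : K} (hw : Omega w) {r t : ℕ} (hr : r < chevE6.nroots) (ht : t < 4) (a b : chevE6.Idx) :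
    io w (entCode r t (code a) (code b)) = chevE6.x K r (io w t) a b := by
  rcases b with j | s
  · have hj : j.val < 6 := j.2
    rcases a with i | u
    · have hi : i.val < 6 := i.2
      rw [certE6.xM_inl_inl hr]
      show io w (entCode r t i.val j.val) = _
      simp only [entCode, if_pos hj, if_pos hi]
      by_cases h : i = j
      · subst h; rw [if_pos rfl, if_pos rfl]; exact io_one w
      · rw [if_neg (fun e => h (Fin.ext e)), if_neg h]; exact io_zero w
    · rw [certE6.xM_inr_inl hr]
      simp only [entCode, code, if_pos hj, if_neg (show ¬ 6 + u.val < 6 by omega), Nat.add_sub_cancel_left]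
      by_cases h : u.val = r
      · rw [if_pos h, if_pos h, cast_par hw]
        linear_combination ((chevE6.cartan j.val r : K) * io w t) * hw.two
      · rw [if_neg h, if_neg h]; exact io_zero w
  · rcases a with i | u
    · have hi : i.val < 6 := i.2
      rw [certE6.xM_inl_inr hr]
      show io w (entCode r t i.val (6 + s.val)) = _
      simp only [entCode, if_neg (show ¬ 6 + s.val < 6 by omega), if_pos hi, Nat.add_sub_cancel_left]
      by_cases h : s.val = chevE6.neg r
      · rw [if_pos h, if_pos h]; exact cast_par hw _ _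
      · rw [if_neg h, if_neg h]; exact io_zero w
    · rw [certE6.xM_inr_inr hr]
      simp only [entCode, code, if_neg (show ¬ 6 + s.val < 6 by omega), if_neg (show ¬ 6 + u.val < 6 by omega),
        Nat.add_sub_cancel_left, io_xor hw, io_chain hw _ _ _ ht]
      congr 1
      congr 1
      · by_cases h : u = s
        · subst h
          exact ((congrArg (io w) (if_pos rfl)).trans (io_one w)).trans (if_pos rfl).symm
        · exact ((congrArg (io w) (if_neg fun e => h (Fin.ext (Nat.add_left_cancel e)))).trans (io_zero w)).trans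
            (if_neg h).symm
      · by_cases h : s.val = chevE6.neg r ∧ u.val = r
        · rw [if_pos h, if_pos h, (io_mul hw ht ht).1, neg_self hw, pow_two]
        · rw [if_neg h, if_neg h]; exact io_zero w

/-- A packed matrix is the root element. -/
noncomputable def xOK (r t : ℕ) (P : ℕ × ℕ) : Bool :=
  forallFrom (fun i => forallFrom (fun j =>
    Nat.beq (Nat.add (Nat.land (Nat.shiftRight P.1 (Nat.add (Nat.mul 78 i) j)) 1)
      (Nat.mul 2 (Nat.land (Nat.shiftRight P.2 (Nat.add (Nat.mul 78 i) j)) 1))) (entCode r t i j)) 0 78) 0 78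

theorem xOK_sound {w : K} (hw : Omega w) {r t : ℕ} (hr : r < chevE6.nroots) (ht : t < 4) {P : ℕ × ℕ}
    (h : xOK r t P = true) : dec w P = chevE6.x K r (io w t) := by
  ext a b
  have h' := Nat.eq_of_beq_eq_true
    (forallFrom_elim (forallFrom_elim h (Nat.zero_le (code a)) (by have := code_lt a; omega))
      (Nat.zero_le (code b)) (by have := code_lt b; omega))
  rw [← io_entCode hw hr ht a b, ← h']
  show bv w (P.1.testBit _) (P.2.testBit _) = bv w _ _
  have e : ∀ n m, (Nat.land (Nat.shiftRight n m) 1) = if n.testBit m then 1 else 0 := fun n m => by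
    rw [testBit_eq_beq]
    have : Nat.land (Nat.shiftRight n m) 1 = (n >>> m) % 2 := Nat.and_one_is_mod _
    rcases Nat.mod_two_eq_zero_or_one (n >>> m) with h | h <;>
      simp [h, show Nat.beq 0 1 = false from rfl]
  rw [e, e]
  show bv w (P.1.testBit (78 * code a + code b)) (P.2.testBit (78 * code a + code b)) = bv w
    (((if P.1.testBit (78 * code a + code b) = true then 1 else 0) +
      2 * (if P.2.testBit (78 * code a + code b) = true then 1 else 0) : ℕ).testBit 0)
    (((if P.1.testBit (78 * code a + code b) = true then 1 else 0) +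
      2 * (if P.2.testBit (78 * code a + code b) = true then 1 else 0) : ℕ).testBit 1)
  cases P.1.testBit (78 * code a + code b) <;> cases P.2.testBit (78 * code a + code b) <;>
    simp [Nat.testBit]

end CfsgLib.Recog.TwE6Fi22
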