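import Cfsg.Agent.Lib.Recog.TwE6Fi22.Defs

set_option autoImplicit false
set_option maxRecDepth 20000
set_option Elab.async false

/-! Products of the packed matrices (owner: helper22). -/

namespace CfsgLib.Recog.TwE6Fi22
open CfsgLib.ThreeTrans.CosetIndex (forallFrom)

theorem gen_ok : forallFrom (fun k => eqP (evalP rootM (genList.getD k [])) (genM k)) 0 12 = true := by decide +kernel

theorem img_ok : forallFrom (fun k => eqP (evalP genM (imgWords.getD k [])) (imgM k)) 0 9 = true := by decide +kernel

theorem rels_ok : relList.all (fun r => eqP (evalP imgM r) oneP) = true := by decide +kernel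

theorem img_ne : eqP (imgM 0) oneP = false := by decide +kernel

theorem alg_inv : eqP (mulP algInv algM) (addP oneP rankOne) = true := by decide +kernel

theorem alg_kernel : eqP (colP (mulP algM basisMat) 0) (0, 0) = true := by decide +kernel

theorem rank_one : forallFrom (fun i => forallFrom (fun j =>
    Nat.beq (Nat.land (Nat.shiftRight rankOne.1 (Nat.add (Nat.mul 78 i) j)) 1)
      (cond (Nat.beq j freeIdx) (Nat.land (Nat.shiftRight basisMat.1 (Nat.mul 78 i)) 1) 0) &&
    Nat.beq (Nat.land (Nat.shiftRight rankOne.2 (Nat.add (Nat.mul 78 i) j)) 1)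
      (cond (Nat.beq j freeIdx) (Nat.land (Nat.shiftRight basisMat.2 (Nat.mul 78 i)) 1) 0)) 0 78) 0 78 = true := by
  decide +kernel

theorem shift_ok : eqP algShift (0, oneP.1) = true := by decide +kernel

theorem mask_ok : forallFrom (fun i => Nat.beq (Nat.land (Nat.shiftRight (colMask 78) (Nat.mul 78 i)) 1) 1) 0 78 =
    true := by decide +kernel

theorem basis_inv : eqP (mulP basisInv basisMat) oneP = true := by decide +kernel

theorem basis_tree : forallFrom (fun t => Nat.ble (basisTree.getD t (0, 0)).2 t && (Nat.blt (basisTree.getD t (0, 0)).1 9 &&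
    eqP (colP basisMat (Nat.add t 1)) (colP (mulP (imgM (basisTree.getD t (0, 0)).1) basisMat) (basisTree.getD t (0, 0)).2)))
    0 77 = true := by decide +kernel

end CfsgLib.Recog.TwE6Fi22
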