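import Cfsg.Agent.Lib.Recog.TwE6Fi22.RootCheck
import Cfsg.Agent.Lib.Recog.TwE6Fi22.WordCheck
import Cfsg.Agent.Lib.Lie.Twisted.E6
import Cfsg.Agent.Lib.Recog.SporBound.Fi22Group

set_option autoImplicit false
set_option maxRecDepth 20000
set_option linter.style.haveILetI false

/-!
The presented Fi22 inside the twisted group of type E6 over two elements, absolutely irreducible on the adjoint module
(owner: helper22).
-/

namespace CfsgLib.Recog.TwE6Fi22

open Cfsg CfsgLib.ThreeTrans.CosetIndex
open Cfsg.Lie (chevE6 twistedE6)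
open CfsgLib.Lie.Chev CfsgLib.Lie.Chev.TwGroups

variable {K : Type*} [Field K] {w : K} (hw : Omega w)

include hw in
theorem io_two : io w 2 = w := by
  rw [io, show Nat.testBit 2 0 = false from rfl, show Nat.testBit 2 1 = true from rfl]
  simp [bv]

include hw in
theorem io_three : io w 3 = w ^ 2 := by
  rw [io, show Nat.testBit 3 0 = true from rfl, show Nat.testBit 3 1 = true from rfl, pow_two, hw.sq]
  simp [bv, add_comm]

/-- The word of a generator. -/
noncomputable def genWord (w : K) (k : ℕ) : List (ℕ × K) :=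
  ((genList.getD k []).map fun i => ((rootList.getD i (0, 0)).1, io w (rootList.getD i (0, 0)).2))

theorem root_bounds : ∀ k < 20, (rootList.getD k (0, 0)).1 < chevE6.nroots ∧ (rootList.getD k (0, 0)).2 < 4 := by
  decide +kernel

include hw in
theorem genM_eq {k : ℕ} (hk : k < 12) : dec w (genM k) = chevE6.wordMat K (genWord w k) := by
  rw [← eqP_eq (forallFrom_elim gen_ok (Nat.zero_le k) (by omega)), dec_evalP hw, Lie.ChevalleyDatum.wordMat, genWord,
    List.map_map]
  refine congrArg List.prod (List.map_congr_left fun i hi => ?_)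
  have hi20 : i < 20 := (show ∀ k < 12, ∀ i ∈ genList.getD k [], i < 20 by decide +kernel) k hk i hi
  exact xOK_sound hw (root_bounds i hi20).1 (root_bounds i hi20).2 (forallFrom_elim root_ok (Nat.zero_le i) (by omega))

include hw in
theorem genWord_mem {k : ℕ} (hk : k < 12) : genWord w k ∈ Lie.e6Words K 2 := by
  have sing : ∀ r ∈ [Lie.e6p2, Lie.e6m2, Lie.e6p4, Lie.e6m4], [(r, (1 : K))] ∈ Lie.e6Words K 2 :=
    fun r hr => Or.inl ⟨1, one_pow 2, r, hr, rfl⟩
  have pair : ∀ rs ∈ [(Lie.e6p1, Lie.e6p6), (Lie.e6m1, Lie.e6m6), (Lie.e6p3, Lie.e6p5), (Lie.e6m3, Lie.e6m5)],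
      ∀ t : K, [(rs.1, t), (rs.2, t ^ 2)] ∈ Lie.e6Words K 2 := fun rs hrs t => Or.inr ⟨t, rs, hrs, rfl⟩
  have pair1 : ∀ rs ∈ [(Lie.e6p1, Lie.e6p6), (Lie.e6m1, Lie.e6m6), (Lie.e6p3, Lie.e6p5), (Lie.e6m3, Lie.e6m5)],
      [(rs.1, (1 : K)), (rs.2, 1)] ∈ Lie.e6Words K 2 := fun rs hrs => by simpa using pair rs hrs 1
  have s0 := sing 46 (by decide)
  have s1 := sing 25 (by decide)
  have s2 := sing 39 (by decide)
  have s3 := sing 32 (by decide)
  have a0 := pair1 (56, 36) (by decide)
  have a1 := pair1 (15, 35) (by decide)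
  have a2 := pair1 (42, 37) (by decide)
  have a3 := pair1 (29, 34) (by decide)
  have b0 := pair (56, 36) (by decide) w
  have b1 := pair (15, 35) (by decide) w
  have b2 := pair (42, 37) (by decide) w
  have b3 := pair (29, 34) (by decide) w
  interval_cases k <;>
    simp only [genWord, genList, rootList, List.getD_cons_zero, List.getD_cons_succ, List.map_cons, List.map_nil,
      io_one, io_two hw, io_three hw] <;>
    first
      | exact s0 | exact s1 | exact s2 | exact s3 | exact a0 | exact a1 | exact a2 | exact a3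
      | exact b0 | exact b1 | exact b2 | exact b3

include hw in
theorem mem_of_word : ∀ u : List ℕ, (∀ x ∈ u, x < 12) →
    ∃ g ∈ twistedE6 K 2, (g : Matrix chevE6.Idx chevE6.Idx K) = (u.map fun x => dec w (genM x)).prod
  | [], _ => ⟨1, one_mem _, rfl⟩
  | x :: u, h => by
    obtain ⟨g, hg, e⟩ := mem_of_word u fun y hy => h y (List.mem_cons_of_mem _ hy)
    have hx := h x List.mem_cons_self
    have hgen : ((wordG certE6 (genWord w x) : ↥(chevE6.group K)) : GL chevE6.Idx K) ∈ twistedE6 K 2 :=
      Subgroup.subset_closure ⟨genWord w x, genWord_mem hw hx, wordG_val certE6 _⟩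
    refine ⟨_, mul_mem hgen hg, ?_⟩
    rw [Units.val_mul, e, wordG_val, List.map_cons, List.prod_cons, genM_eq hw hx]

include hw in
theorem img_mem {j : ℕ} (hj : j < 9) :
    ∃ g ∈ twistedE6 K 2, (g : Matrix chevE6.Idx chevE6.Idx K) = dec w (imgM j) := by
  obtain ⟨g, hg, e⟩ := mem_of_word hw (imgWords.getD j [])
    ((show ∀ j < 9, ∀ x ∈ imgWords.getD j [], x < 12 by decide +kernel) j hj)
  exact ⟨g, hg, by rw [e, ← dec_evalP hw, eqP_eq (forallFrom_elim img_ok (Nat.zero_le j) (by omega))]⟩

/-- The number of a generator. -/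
def num : Spor.Fi22.Gen → ℕ
  | .a => 0
  | .b => 1
  | .c => 2
  | .d => 3
  | .e => 4
  | .f => 5
  | .g => 6
  | .h => 7
  | .i => 8

theorem num_lt : ∀ x, num x < 9 := by intro x; cases x <;> decide

/-- The image of a generator. -/
noncomputable def img (x : Spor.Fi22.Gen) : GL chevE6.Idx K := (img_mem hw (num_lt x)).choose

theorem img_val (x : Spor.Fi22.Gen) : ((img hw x : GL chevE6.Idx K) : Matrix chevE6.Idx chevE6.Idx K) = dec w (imgM (num x)) :=
  (img_mem hw (num_lt x)).choose_spec.2

theorem img_tw (x : Spor.Fi22.Gen) : img hw x ∈ twistedE6 K 2 := (img_mem hw (num_lt x)).choose_spec.1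

theorem val_word : ∀ u : List Spor.Fi22.Gen,
    (((u.map (img hw)).prod : GL chevE6.Idx K) : Matrix chevE6.Idx chevE6.Idx K) =
      ((u.map num).map fun x => dec w (imgM x)).prod
  | [] => rfl
  | x :: u => by simp only [List.map_cons, List.prod_cons, Units.val_mul, img_val, val_word u]

theorem word_one (u : List Spor.Fi22.Gen) (h : u.map num ∈ relList) : (u.map (img hw)).prod = 1 := by
  refine Units.ext ?_
  rw [val_word, ← dec_evalP hw, eqP_eq (List.all_eq_true.1 rels_ok _ h), dec_one]
  rfl

theorem pow_one' (u : List Spor.Fi22.Gen) (m : ℕ) (h : (List.replicate m (u.map num)).flatten ∈ relList) :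
    (u.map (img hw)).prod ^ m = 1 := by
  have e : ∀ k, ((List.replicate k u).flatten.map (img hw)).prod = (u.map (img hw)).prod ^ k := by
    intro k
    induction k with
    | zero => simp
    | succ k ih => rw [List.replicate_succ, List.flatten_cons, List.map_append, List.prod_append, ih, pow_succ']
  rw [← e]
  refine word_one hw _ ?_
  rwa [List.map_flatten, List.map_replicate]

theorem label_eq : ∀ x y : Spor.Fi22.Gen, num x ≤ num y →
    Spor.coxLabel Spor.Fi22.edges x y = lab (num x) (num y) ∧
    Spor.coxLabel Spor.Fi22.edges y x = lab (num x) (num y) ∧ (num x, num y) ∈ nodePairs := by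
  intro x y
  cases x <;> cases y <;> decide

theorem pair_rel (x y : Spor.Fi22.Gen) : (img hw x * img hw y) ^ Spor.coxLabel Spor.Fi22.edges x y = 1 := by
  have key : ∀ x y, num x ≤ num y → (img hw x * img hw y) ^ lab (num x) (num y) = 1 := by
    intro x y hxy
    have := pow_one' hw [x, y] (lab (num x) (num y))
      (List.mem_append_left _ (List.mem_map.2 ⟨_, (label_eq x y hxy).2.2, rfl⟩))
    simpa using this
  rcases le_total (num x) (num y) with h | h
  · rw [(label_eq x y h).1]; exact key x y h
  · rw [(label_eq y x h).2.1]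
    have e := key y x h
    rw [show img hw x * img hw y = (img hw y)⁻¹ * (img hw y * img hw x) * ((img hw y)⁻¹)⁻¹ by group, conj_pow, e]
    group

theorem rels_one : ∀ r ∈ Spor.coxRelators Spor.Fi22.edges ∪ {r | r ∈ Spor.Fi22.extra},
    FreeGroup.lift (img hw) r = 1 := by
  rintro r (⟨x, -, y, -, rfl⟩ | hr)
  · simp only [map_pow, map_mul, FreeGroup.lift_apply_of]
    exact pair_rel hw x y
  · simp only [Spor.Fi22.extra, Set.mem_setOf_eq, List.mem_cons, List.not_mem_nil, or_false] at hr
    rcases hr with rfl | rfl | rfl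
    · have h := pow_one' hw [.d, .c, .b, .d, .e, .f, .d, .h, .i] 10 (by decide +kernel)
      simpa [mul_assoc] using h
    · have h := pow_one' hw [.a, .b, .c, .d, .e, .f, .h] 9 (by decide +kernel)
      simpa [mul_assoc] using h
    · have h := pow_one' hw [.b, .c, .d, .e, .f, .g, .h] 9 (by decide +kernel)
      simpa [mul_assoc] using h

/-- The representation. -/
noncomputable def rep : Spor.Fi22 →* GL chevE6.Idx K := PresentedGroup.toGroup (rels_one hw)

theorem rep_gen (x : Spor.Fi22.Gen) : rep hw (PresentedGroup.of x) = img hw x := PresentedGroup.toGroup.of (rels_one hw)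

theorem rep_tw (u : Spor.Fi22) : rep hw u ∈ twistedE6 K 2 := by
  have hu : u ∈ Subgroup.closure (Set.range (PresentedGroup.of (rels := Spor.coxRelators Spor.Fi22.edges ∪
      {r | r ∈ Spor.Fi22.extra}))) := by rw [PresentedGroup.closure_range_of]; exact Subgroup.mem_top _
  induction hu using Subgroup.closure_induction with
  | mem g hg => obtain ⟨x, rfl⟩ := hg; rw [rep_gen]; exact img_tw hw x
  | one => rw [map_one]; exact one_mem _
  | mul g g' _ _ i1 i2 => rw [map_mul]; exact mul_mem i1 i2
  | inv g _ i1 => rw [map_inv]; exact inv_mem i1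

include hw in
theorem io_inj {a b c d : Bool} (h : bv w a b = bv w c d) : a = c ∧ b = d := by
  have h1 : (1 : K) ≠ 0 := one_ne_zero
  have hw0 : w ≠ 0 := fun e => h1 (by linear_combination hw.sq.symm + (w - 1) * e)
  have hw1 : w ≠ 1 := fun e => h1 (by linear_combination -(hw.sq) + (w + 0) * e)
  have hww : w + 1 ≠ 0 := fun e => hw1 (by linear_combination e - hw.two)
  cases a <;> cases b <;> cases c <;> cases d <;> simp [bv, add_comm] at h ⊢ <;>
    first
      | exact hw0 h | exact hw0 h.symm | exact hw1 h | exact hw1 h.symm | exact hww h | exact hww h.symm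

theorem diff_bit :
    Nat.beq (Nat.land (Nat.shiftRight (imgM 0).1 6) 1) 1 =
      !(Nat.beq (Nat.land (Nat.shiftRight oneP.1 6) 1) 1) := by decide +kernel

theorem img_ne_one : img hw .a ≠ 1 := by
  intro h
  have e : dec w (imgM 0) = dec w oneP := by
    rw [dec_one, show imgM 0 = imgM (num Spor.Fi22.Gen.a) from rfl, ← img_val hw, h]; rfl
  obtain ⟨a, ha⟩ := exists_code (show 0 < 78 by omega)
  obtain ⟨b, hb⟩ := exists_code (show 6 < 78 by omega)
  have h1 := (io_inj hw (congrFun (congrFun e a) b)).1
  rw [ha, hb, testBit_eq_beq, testBit_eq_beq] at h1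
  exact Bool.not_ne_self _ (diff_bit.symm.trans h1)

theorem rep_injective : Function.Injective (rep hw) := by
  haveI := SporBound.Fi22Group.isSimple
  rw [← MonoidHom.ker_eq_bot_iff]
  refine (IsSimpleGroup.eq_bot_or_eq_top_of_normal (rep hw).ker inferInstance).resolve_right fun h => ?_
  have h0 : rep hw (PresentedGroup.of Spor.Fi22.Gen.a) = 1 := by
    rw [← MonoidHom.mem_ker, h]; exact Subgroup.mem_top _
  rw [rep_gen] at h0
  exact img_ne_one hw h0

end CfsgLib.Recog.TwE6Fi22
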