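import Cfsg.Agent.Lib.Recog.TwE6Fi22.Hom

set_option autoImplicit false
set_option maxRecDepth 20000

/-!
Only scalars commute with Fi22 on the adjoint module of E6 over four elements (owner: helper22).
-/

namespace CfsgLib.Recog.TwE6Fi22

open CfsgLib.ThreeTrans.CosetIndex (forallFrom_elim)
open Cfsg.Lie (chevE6)

variable {K : Type*} [Field K] {w : K} (hw : Omega w)

theorem testBit_colBits (A k : ℕ) {i : ℕ} (hi : i < 78) :
    (colBits A k).testBit (78 * i) = A.testBit (78 * i + k) := by
  have h : (colMask 78).testBit (78 * i) = true := by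
    rw [testBit_eq_beq, show Nat.shiftRight (colMask 78) (78 * i) = Nat.shiftRight (colMask 78) (Nat.mul 78 i) from rfl,
      Nat.eq_of_beq_eq_true (forallFrom_elim mask_ok (Nat.zero_le i) (by omega))]
    rfl
  show (A >>> k &&& colMask 78).testBit _ = _
  rw [Nat.testBit_and, h, Bool.and_true, Nat.testBit_shiftRight, Nat.add_comm]

theorem val_col (w : K) (P : ℕ × ℕ) {i : ℕ} (k : ℕ) (hi : i < 78) :
    bv w ((colP P k).1.testBit (78 * i)) ((colP P k).2.testBit (78 * i)) = val w P i k := by
  show bv w ((colBits P.1 k).testBit _) ((colBits P.2 k).testBit _) = _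
  rw [testBit_colBits _ _ hi, testBit_colBits _ _ hi]; rfl

theorem val_rankOne (w : K) {i j : ℕ} (hi : i < 78) (hj : j < 78) :
    val w rankOne i j = if j = freeIdx then val w basisMat i 0 else 0 := by
  have h := forallFrom_elim (forallFrom_elim rank_one (Nat.zero_le i) (by omega)) (Nat.zero_le j) (by omega)
  simp only [Bool.and_eq_true, Nat.beq_eq] at h
  obtain ⟨h1, h2⟩ := h
  have e1 : ∀ n m : ℕ, n.testBit m = Nat.beq (Nat.land (Nat.shiftRight n m) 1) 1 := testBit_eq_beq
  show bv w (rankOne.1.testBit (78 * i + j)) (rankOne.2.testBit (78 * i + j)) =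
    if j = freeIdx then bv w (basisMat.1.testBit (78 * i + 0)) (basisMat.2.testBit (78 * i + 0)) else 0
  rw [e1 rankOne.1, e1 rankOne.2, show Nat.shiftRight rankOne.1 (78 * i + j) =
      Nat.shiftRight rankOne.1 (Nat.add (Nat.mul 78 i) j) from rfl,
    show Nat.shiftRight rankOne.2 (78 * i + j) = Nat.shiftRight rankOne.2 (Nat.add (Nat.mul 78 i) j) from rfl, h1, h2]
  by_cases hjf : j = freeIdx
  · rw [if_pos hjf, show Nat.beq j freeIdx = true by rw [hjf]; exact Nat.beq_refl _, cond_true, cond_true, Nat.add_zero,
      e1 basisMat.1, e1 basisMat.2]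
    rfl
  · rw [if_neg hjf, show Nat.beq j freeIdx = false from Bool.eq_false_iff.2 fun e => hjf (Nat.eq_of_beq_eq_true e),
      cond_false, cond_false]
    simp [bv, show Nat.beq 0 1 = false from rfl]

theorem dec_shift (w : K) : dec w (0, oneP.1) = w • (1 : Matrix chevE6.Idx chevE6.Idx K) := by
  rw [← dec_one w]
  ext a b
  show bv w ((0 : ℕ).testBit _) (oneP.1.testBit _) = w * bv w (oneP.1.testBit _) ((0 : ℕ).testBit _)
  rw [Nat.zero_testBit]
  cases oneP.1.testBit (78 * code a + code b) <;> simp [bv]

include hw in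
theorem comm_word {X : Matrix chevE6.Idx chevE6.Idx K} (h : ∀ j < 9, Commute X (dec w (imgM j))) :
    ∀ u : List ℕ, (∀ x ∈ u, x < 9) → Commute X (dec w (evalP imgM u))
  | [], _ => by rw [show dec w (evalP imgM []) = 1 from dec_one w]; exact Commute.one_right X
  | x :: u, hu => by
    rw [show dec w (evalP imgM (x :: u)) = dec w (imgM x) * dec w (evalP imgM u) from dec_mulP hw _ _]
    exact (h x (hu x List.mem_cons_self)).mul_right (comm_word h u fun y hy => hu y (List.mem_cons_of_mem _ hy))

include hw in
theorem scalar_of_comm {X : Matrix chevE6.Idx chevE6.Idx K} (h : ∀ j < 9, Commute X (dec w (imgM j))) :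
    ∃ c : K, X = c • (1 : Matrix chevE6.Idx chevE6.Idx K) := by
  obtain ⟨A, hA⟩ : ∃ A, A = dec w algM := ⟨_, rfl⟩
  have hXA : Commute X A := by
    rw [hA, algM, dec_addP hw, dec_addP hw, eqP_eq shift_ok, dec_shift]
    exact (((comm_word hw h _ (by decide +kernel)).add_right (comm_word hw h _ (by decide +kernel))).add_right
      ((Commute.one_right X).smul_right w))
  obtain ⟨i0, hi0⟩ := exists_code (show 0 < 78 by omega)
  obtain ⟨if_, hif⟩ := exists_code (show freeIdx < 78 by decide +kernel)
  obtain ⟨S, hS⟩ : ∃ S, S = dec w basisMat := ⟨_, rfl⟩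
  -- the kernel vector
  have hker : ∀ a, (A * S) a i0 = 0 := fun a => by
    rw [hA, hS, ← dec_mulP hw]
    show val w (mulP algM basisMat) (code a) (code i0) = 0
    rw [hi0, ← val_col w _ 0 (code_lt a), eqP_eq alg_kernel]
    simp [bv]
  -- its image
  have hBA : dec w algInv * A = 1 + dec w rankOne := by
    rw [hA, ← dec_mulP hw, eqP_eq alg_inv, dec_addP hw, dec_one]
  have hfirst : ∀ a, (X * S) a i0 = (X * S) if_ i0 * S a i0 := fun a => by
    have h0 : ∀ b, (A * (X * S)) b i0 = 0 := fun b => by
      rw [← mul_assoc, ← hXA.eq, mul_assoc, Matrix.mul_apply]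
      exact Finset.sum_eq_zero fun c _ => by rw [hker, mul_zero]
    have h1 : ((dec w algInv * A) * (X * S)) a i0 = 0 := by
      rw [mul_assoc, Matrix.mul_apply]
      exact Finset.sum_eq_zero fun c _ => by rw [h0, mul_zero]
    have h2 : (dec w rankOne * (X * S)) a i0 = S a i0 * (X * S) if_ i0 := by
      rw [Matrix.mul_apply, Finset.sum_eq_single if_ (fun c _ hc => ?_) (by simp)]
      · congr 1
        rw [hS]
        show val w rankOne (code a) (code if_) = val w basisMat (code a) (code i0)
        rw [hif, hi0, val_rankOne w (code_lt a) (show freeIdx < 78 by decide +kernel), if_pos rfl]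
      · rw [show dec w rankOne a c = 0 by
          show val w rankOne (code a) (code c) = 0
          rw [val_rankOne w (code_lt a) (code_lt c), if_neg fun e => hc (code_inj (e.trans hif.symm))], zero_mul]
    rw [hBA, add_mul, one_mul, Matrix.add_apply, h2] at h1
    linear_combination h1 - (X * S) if_ i0 * S a i0 * hw.two
  obtain ⟨c, hc⟩ : ∃ c, c = (X * S) if_ i0 := ⟨_, rfl⟩
  have hall : ∀ t, ∀ b : chevE6.Idx, code b = t → ∀ a, (X * S) a b = c * S a b := by
    intro t
    induction t using Nat.strong_induction_on with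
    | _ t ih =>
      intro b hb a
      rcases t with _ | t
      · rw [show b = i0 from code_inj (hb.trans hi0.symm), hfirst, hc]
      · have ht : t < 77 := by have := code_lt b; omega
        have htree := forallFrom_elim basis_tree (Nat.zero_le t) (by omega)
        simp only [Bool.and_eq_true, Nat.ble_eq, Nat.blt_eq] at htree
        obtain ⟨hk, hj, hcol⟩ := htree
        obtain ⟨bk, hbk⟩ := exists_code (show (basisTree.getD t (0, 0)).2 < 78 by omega)
        obtain ⟨M, hM⟩ : ∃ M, M = dec w (imgM (basisTree.getD t (0, 0)).1) := ⟨_, rfl⟩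
        have hcolb : ∀ e, S e b = (M * S) e bk := fun e => by
          rw [hS, hM, ← dec_mulP hw]
          show val w basisMat (code e) (code b) = val w _ (code e) (code bk)
          rw [hb, hbk, ← val_col w _ (t + 1) (code_lt e), ← val_col w _ (basisTree.getD t (0, 0)).2 (code_lt e),
            ← eqP_eq hcol]
        have e1 : (X * S) a b = (X * (M * S)) a bk := by
          rw [Matrix.mul_apply, Matrix.mul_apply]
          exact Finset.sum_congr rfl fun e _ => by rw [hcolb]
        rw [e1, ← mul_assoc, (hM ▸ h _ hj : Commute X M).eq, mul_assoc, Matrix.mul_apply, hcolb, Matrix.mul_apply,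
          Finset.mul_sum]
        refine Finset.sum_congr rfl fun e _ => ?_
        rw [ih _ (by omega) bk hbk e]
        ring
  refine ⟨c, ?_⟩
  have hinv : dec w basisInv * S = 1 := by rw [hS, ← dec_mulP hw, eqP_eq basis_inv, dec_one]
  have hinv' : S * dec w basisInv = 1 := mul_eq_one_comm.1 hinv
  have hXS : X * S = c • S := by
    ext a b
    exact hall (code b) b rfl a
  calc X = X * (S * dec w basisInv) := by rw [hinv', mul_one]
    _ = _ := by rw [← mul_assoc, hXS, Matrix.smul_mul, hinv']

end CfsgLib.Recog.TwE6Fi22
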