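import Cfsg.Agent.Lib.Recog.TwE6Fi22.Irred
import Cfsg.Agent.Lib.Recog.TwE6Fi22.Diag
import Cfsg.Agent.Lib.Recog.SporBound.Fi22Aut.Main

set_option autoImplicit false
set_option maxRecDepth 20000
set_option linter.style.haveILetI false

/-!
Three classes of subgroups isomorphic to Fi22 in the twisted group of type E6 over two elements (owner: helper22).

Were two diagonal translates conjugate, the conjugating element would give an automorphism of Fi22 whose square is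
inner, so a diagonal matrix outside would differ from an element of the Chevalley group by a scalar.
-/

namespace CfsgLib.Recog.TwE6Fi22

open Cfsg
open Cfsg.Lie (chevE6 twistedE6)
open CfsgLib.Lie.Chev

variable {K : Type*} [Field K] [Fintype K]

theorem exists_omega (hK : Fintype.card K = 4) : ∃ u : Kˣ, orderOf u = 3 ∧ Omega (u : K) := by
  classical
  obtain ⟨u, hu⟩ : ∃ u : Kˣ, u ≠ 1 :=
    Fintype.exists_ne_of_one_lt_card (by rw [Fintype.card_units, hK]; norm_num) 1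
  have h3 : u ^ 3 = 1 := by rw [← pow_card_eq_one (x := u)]; congr 1; rw [Fintype.card_units, hK]
  haveI : Fact (Nat.Prime 3) := ⟨by norm_num⟩
  refine ⟨u, orderOf_eq_prime h3 hu, ?_⟩
  have h2 : (2 : K) = 0 := by
    have h : ((4 : ℕ) : K) = 0 := by rw [← hK]; exact FiniteField.cast_card_eq_zero K
    exact mul_self_eq_zero.1 (by push_cast at h; linear_combination h)
  refine ⟨h2, ?_⟩
  have hne : (u : K) - 1 ≠ 0 := sub_ne_zero.2 fun e => hu (Units.ext e)
  have h3' : (u : K) ^ 3 = 1 := by rw [← Units.val_pow_eq_pow_val, h3, Units.val_one]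
  have h4 : ((u : K) * u + u + 1) * ((u : K) - 1) = 0 := by linear_combination h3'
  have h5 := (mul_eq_zero.1 h4).resolve_right hne
  linear_combination h5 - ((u : K) + 1) * h2

theorem num_surj : ∀ j < 9, ∃ x, num x = j := by
  intro j hj
  interval_cases j
  exacts [⟨.a, rfl⟩, ⟨.b, rfl⟩, ⟨.c, rfl⟩, ⟨.d, rfl⟩, ⟨.e, rfl⟩, ⟨.f, rfl⟩, ⟨.g, rfl⟩, ⟨.h, rfl⟩, ⟨.i, rfl⟩]

theorem central_of_comm {u : Kˣ} (hw : Omega (u : K)) {Z : GL chevE6.Idx K}
    (h : ∀ x : Spor.Fi22, Commute Z (rep hw x)) (g : GL chevE6.Idx K) : Commute Z g := by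
  obtain ⟨c, hc⟩ := scalar_of_comm (X := (Z : Matrix chevE6.Idx chevE6.Idx K)) hw fun j hj => by
    obtain ⟨x, rfl⟩ := num_surj j hj
    have := congrArg Units.val (h (PresentedGroup.of x)).eq
    rwa [rep_gen, Units.val_mul, Units.val_mul, img_val] at this
  refine Units.ext ?_
  rw [Units.val_mul, Units.val_mul, hc, Matrix.smul_mul, Matrix.mul_smul, one_mul, mul_one]

theorem main (hK : Fintype.card K = 4) :
    ∃ H : Fin 3 → Subgroup (twistedE6 K 2),
      (∀ i, Spor.IsoFi22 (H i)) ∧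
      (∀ i j, i ≠ j → ∀ g : (twistedE6 K 2), (H i).map (MulAut.conj g).toMonoidHom ≠ H j) := by
  obtain ⟨u, hu3, hw⟩ := exists_omega hK
  have hu : u ^ 3 = 1 := by rw [← hu3]; exact pow_orderOf_eq_one u
  obtain ⟨fT, hfT⟩ : ∃ fT : Fin 3 → Spor.Fi22 →* twistedE6 K 2, ∀ i x,
      ((fT i x : twistedE6 K 2) : GL chevE6.Idx K) = dd u i * rep hw x * (dd u i)⁻¹ :=
    ⟨fun i => ((MulAut.conj (dd u i)).toMonoidHom.comp (rep hw)).codRestrict _
      fun x => dd_normalises i (rep_tw hw x), fun _ _ => rfl⟩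
  have hinj : ∀ i, Function.Injective (fT i) := fun i a b e => by
    refine rep_injective hw ?_
    have := congrArg (fun z : twistedE6 K 2 => (z : GL chevE6.Idx K)) e
    simp only [hfT] at this
    exact mul_left_cancel (mul_right_cancel this)
  refine ⟨fun i => (fT i).range, fun i => ⟨(MonoidHom.ofInjective (hinj i)).symm⟩, fun i j hij g hg => ?_⟩
  haveI := SporBound.Fi22Group.finite_fi22
  -- the automorphism of Fi22
  have hback : ∀ x, ∃ x', fT j x' = g * fT i x * g⁻¹ := fun x => by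
    have h1 : MulAut.conj g (fT i x) ∈ (fT j).range := (SetLike.ext_iff.1 hg _).1 ⟨fT i x, ⟨x, rfl⟩, rfl⟩
    exact h1
  choose α hα using hback
  obtain ⟨αh, hαh⟩ : ∃ αh : Spor.Fi22 →* Spor.Fi22, ∀ x, αh x = α x :=
    ⟨MonoidHom.mk' α fun a b => hinj j (by rw [map_mul, hα, hα, hα, map_mul]; group), fun _ => rfl⟩
  have hαinj : Function.Injective αh := fun a b e => by
    rw [hαh, hαh] at e
    have h := congrArg (fT j) e
    rw [hα, hα] at h
    exact hinj i (mul_left_cancel (mul_right_cancel h))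
  obtain ⟨β, hβ⟩ : ∃ β : MulAut Spor.Fi22, ∀ x, β x = α x :=
    ⟨MulEquiv.ofBijective αh (Finite.injective_iff_bijective.1 hαinj), fun x => hαh x⟩
  obtain ⟨h, hh⟩ : ∃ h : Spor.Fi22, ∀ x, α (α x) = h * x * h⁻¹ := by
    have h2 : (QuotientGroup.mk' (Cfsg.Inn Spor.Fi22) β) ^ 2 = 1 := by
      haveI : Finite (MulAut Spor.Fi22) :=
        Finite.of_injective (fun a : MulAut Spor.Fi22 => (a : Spor.Fi22 → Spor.Fi22)) DFunLike.coe_injective
      rw [← SporBound.Fi22Aut.card_out]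
      exact pow_card_eq_one'
    rw [← map_pow] at h2
    obtain ⟨h, hh⟩ := (QuotientGroup.eq_one_iff _).1 h2
    refine ⟨h, fun x => ?_⟩
    rw [← hβ, ← hβ]
    exact (DFunLike.congr_fun hh x).symm
  obtain ⟨y, hy⟩ : ∃ y : GL chevE6.Idx K, y = (dd u j)⁻¹ * (g : GL chevE6.Idx K) * dd u i := ⟨_, rfl⟩
  have hconj : ∀ x, rep hw (α x) = y * rep hw x * y⁻¹ := fun x => by
    have e := congrArg (fun z : twistedE6 K 2 => (z : GL chevE6.Idx K)) (hα x)
    simp only [hfT, Subgroup.coe_mul, InvMemClass.coe_inv] at e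
    calc rep hw (α x) = (dd u j)⁻¹ * (dd u j * rep hw (α x) * (dd u j)⁻¹) * dd u j := by group
      _ = _ := by rw [e, hy]; group
  obtain ⟨Z, hZ⟩ : ∃ Z : GL chevE6.Idx K, Z = (rep hw h)⁻¹ * (y * y) := ⟨_, rfl⟩
  have hZc : ∀ k : GL chevE6.Idx K, Commute Z k := by
    refine central_of_comm hw fun x => ?_
    have e : y * y * rep hw x * (y * y)⁻¹ = rep hw h * rep hw x * (rep hw h)⁻¹ := by
      calc y * y * rep hw x * (y * y)⁻¹ = y * (y * rep hw x * y⁻¹) * y⁻¹ := by group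
        _ = rep hw (α (α x)) := by rw [← hconj, ← hconj]
        _ = _ := by rw [hh, map_mul, map_mul, map_inv]
    show Z * rep hw x = rep hw x * Z
    calc Z * rep hw x = (rep hw h)⁻¹ * (y * y * rep hw x * (y * y)⁻¹) * (y * y) := by rw [hZ]; group
      _ = (rep hw h)⁻¹ * (rep hw h * rep hw x * (rep hw h)⁻¹) * (y * y) := by rw [e]
      _ = _ := by rw [hZ]; group
  obtain ⟨n, hn⟩ : ∃ n : ℕ, n = (i : ℕ) + 2 * (j : ℕ) := ⟨_, rfl⟩
  have hdj : (dd u j)⁻¹ = dd u (2 * (j : ℕ)) :=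
    inv_eq_of_mul_eq_one_right (by rw [dd_mul]; exact dd_three hu ⟨j, by ring⟩)
  have hz : dd u j * y * (dd u j)⁻¹ = (g : GL chevE6.Idx K) * dd u n := by
    rw [hy, hn, ← dd_mul, ← hdj]; group
  have hmem : ∀ (a : ℕ) (z : GL chevE6.Idx K), z ∈ twistedE6 K 2 → dd u a * z * (dd u a)⁻¹ ∈ chevE6.group K :=
    fun a z hz => TwGroups.twE6_le (dd_normalises a hz)
  obtain ⟨g0, hg0⟩ : ∃ g0 : ↥(chevE6.group K), (g0 : GL chevE6.Idx K) * Z = dd u (2 * n) := by
    refine ⟨⟨((g : GL chevE6.Idx K) * (dd u n * g * (dd u n)⁻¹))⁻¹ * (dd u j * rep hw h * (dd u j)⁻¹),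
      mul_mem (inv_mem (mul_mem (TwGroups.twE6_le g.2) (hmem _ _ g.2))) (hmem _ _ (rep_tw hw h))⟩, ?_⟩
    show ((g : GL chevE6.Idx K) * (dd u n * g * (dd u n)⁻¹))⁻¹ * (dd u j * rep hw h * (dd u j)⁻¹) * Z = _
    have e : dd u j * rep hw h * (dd u j)⁻¹ * Z = (dd u j * y * (dd u j)⁻¹) * (dd u j * y * (dd u j)⁻¹) := by
      rw [mul_assoc, ← (hZc (dd u j)⁻¹).eq, hZ]; group
    rw [mul_assoc, e, hz, two_mul, ← dd_mul]
    group
  have h3 : 3 ∣ 2 * n := three_dvd_of_inner hu3 hK g0 fun x => by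
    refine Subtype.ext ?_
    rw [dAut_val, ← hg0, Subgroup.coe_mul, Subgroup.coe_mul, InvMemClass.coe_inv]
    rw [mul_inv_rev, mul_assoc (g0 : GL chevE6.Idx K) Z, (hZc (x : GL chevE6.Idx K)).eq]
    group
  have hi := i.2
  have hj := j.2
  exact hij (Fin.ext (by omega))

end CfsgLib.Recog.TwE6Fi22
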