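import Cfsg.Agent.Lib.ThreeTrans.CosetIndex.Core
import Cfsg.Prelude.Def_ChevE6

set_option autoImplicit false
set_option maxRecDepth 20000

/-!
Matrices of size 78 over four elements as two bit planes, a product taking 78 rounds of long multiplications
(owner: helper22).

Bit `78 * i + j` of the first plane is the coefficient of one, of the second the coefficient of the cube root of unity.
-/

namespace CfsgLib.Recog.TwE6Fi22

open CfsgLib.ThreeTrans.CosetIndex (forallFrom forallFrom_elim)
open Cfsg.Lie (chevE6)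

/-- Bits at the multiples of 78. -/
noncomputable def colMask : ℕ → ℕ := Nat.rec 0 fun _ M => Nat.lor 1 (Nat.shiftLeft M 78)

/-- The pattern of a column, moved to the multiples of 78. -/
noncomputable def colBits (A k : ℕ) : ℕ := Nat.land (Nat.shiftRight A k) (colMask 78)

/-- A row. -/
noncomputable def rowBits (B k : ℕ) : ℕ := Nat.land (Nat.shiftRight B (Nat.mul 78 k)) (2 ^ 78 - 1)

/-- The first plane of a product of a column and a row. -/
noncomputable def outerA (P Q : ℕ × ℕ) (k : ℕ) : ℕ :=
  Nat.xor (Nat.mul (colBits P.1 k) (rowBits Q.1 k)) (Nat.mul (colBits P.2 k) (rowBits Q.2 k))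

/-- The second plane of a product of a column and a row. -/
noncomputable def outerB (P Q : ℕ × ℕ) (k : ℕ) : ℕ :=
  Nat.xor (Nat.xor (Nat.mul (colBits P.1 k) (rowBits Q.2 k)) (Nat.mul (colBits P.2 k) (rowBits Q.1 k)))
    (Nat.mul (colBits P.2 k) (rowBits Q.2 k))

/-- Partial products. -/
noncomputable def partP (P Q : ℕ × ℕ) : ℕ → ℕ × ℕ :=
  Nat.rec (0, 0) fun k acc => (Nat.xor acc.1 (outerA P Q k), Nat.xor acc.2 (outerB P Q k))

/-- The product. -/
noncomputable def mulP (P Q : ℕ × ℕ) : ℕ × ℕ := partP P Q 78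

/-- The sum. -/
noncomputable def addP (P Q : ℕ × ℕ) : ℕ × ℕ := (Nat.xor P.1 Q.1, Nat.xor P.2 Q.2)

/-- The identity. -/
noncomputable def oneP : ℕ × ℕ :=
  (Nat.rec 0 (fun k M => Nat.lor M (Nat.shiftLeft 1 (Nat.mul 79 k))) 78, 0)

/-- Equality of packed matrices. -/
noncomputable def eqP (P Q : ℕ × ℕ) : Bool := Nat.beq P.1 Q.1 && Nat.beq P.2 Q.2

theorem eqP_eq {P Q : ℕ × ℕ} (h : eqP P Q = true) : P = Q := by
  simp only [eqP, Bool.and_eq_true] at h
  exact Prod.ext (Nat.eq_of_beq_eq_true h.1) (Nat.eq_of_beq_eq_true h.2)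

/-- A word in packed matrices. -/
noncomputable def evalP (M : ℕ → ℕ × ℕ) (w : List ℕ) : ℕ × ℕ :=
  List.rec (motive := fun _ => ℕ × ℕ) oneP (fun x _ acc => mulP (M x) acc) w

theorem testBit_spread : ∀ (n A : ℕ) {row : ℕ}, row < 2 ^ 78 → ∀ {i j : ℕ}, i < n → j < 78 →
    ((A &&& colMask n) * row).testBit (78 * i + j) = (A.testBit (78 * i) && row.testBit j)
  | 0, _, _, _, i, _, hi, _ => by omega
  | n + 1, A, row, hrow, i, j, hi, hj => by
    have e : A &&& colMask (n + 1) = 2 ^ 78 * ((A >>> 78) &&& colMask n) + A % 2 := by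
      refine Nat.eq_of_testBit_eq fun m => ?_
      have hlt : A % 2 < 2 ^ 78 := lt_of_lt_of_le (Nat.mod_lt _ two_pos) (Nat.le_self_pow (by norm_num) 2)
      rw [Nat.testBit_and, Nat.testBit_two_pow_mul_add _ hlt]
      show (A.testBit m && (1 ||| colMask n <<< 78 : ℕ).testBit m) = _
      rw [Nat.testBit_or, Nat.testBit_shiftLeft]
      rcases Nat.lt_or_ge m 78 with hm | hm
      · rw [decide_eq_false (by omega), Bool.false_and, Bool.or_false, if_pos hm]
        rcases m with _ | m
        · simp [Nat.testBit_zero]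
        · rw [Nat.testBit_lt_two_pow (show 1 < 2 ^ (m + 1) from Nat.one_lt_two_pow (by omega)),
            Nat.testBit_lt_two_pow (lt_of_lt_of_le (Nat.mod_lt _ two_pos) (Nat.le_self_pow (by omega) 2)),
            Bool.and_false]
      · rw [Nat.testBit_lt_two_pow (Nat.one_lt_two_pow (by omega) : 1 < 2 ^ m), Bool.false_or,
          decide_eq_true hm, Bool.true_and, if_neg (by omega), Nat.testBit_and, Nat.testBit_shiftRight,
          Nat.add_sub_cancel' hm]
    have hb : A % 2 * row < 2 ^ 78 := by
      rcases Nat.mod_two_eq_zero_or_one A with h | h <;> rw [h] <;> omega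
    rw [e, add_mul, mul_assoc, Nat.testBit_two_pow_mul_add _ hb]
    rcases i with _ | i
    · rw [if_pos (by omega), Nat.mul_zero, Nat.zero_add, Nat.testBit_zero]
      rcases Nat.mod_two_eq_zero_or_one A with h | h <;> simp [h]
    · rw [if_neg (by omega), show 78 * (i + 1) + j - 78 = 78 * i + j by omega,
        testBit_spread n (A >>> 78) hrow (by omega) hj, Nat.testBit_shiftRight,
        show 78 + 78 * i = 78 * (i + 1) by omega]

theorem testBit_outer {A B k i j : ℕ} (hi : i < 78) (hj : j < 78) :
    (colBits A k * rowBits B k).testBit (78 * i + j) = (A.testBit (78 * i + k) && B.testBit (78 * k + j)) := by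
  have hrow : rowBits B k < 2 ^ 78 :=
    lt_of_le_of_lt (Nat.and_le_right : B >>> (78 * k) &&& (2 ^ 78 - 1) ≤ _) (by norm_num)
  rw [show colBits A k = (A >>> k) &&& colMask 78 from rfl, testBit_spread 78 _ hrow hi hj, Nat.testBit_shiftRight]
  show (A.testBit (k + 78 * i) && (B >>> (78 * k) &&& (2 ^ 78 - 1)).testBit j) = _
  rw [Nat.testBit_and, Nat.testBit_shiftRight, Nat.testBit_two_pow_sub_one, decide_eq_true hj, Bool.and_true,
    Nat.add_comm k]

variable {K : Type*} [Field K]

/-- A cube root of unity in characteristic two. -/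
structure Omega (w : K) : Prop where
  two : (2 : K) = 0
  sq : w * w = w + 1

/-- The value of two bits. -/
def bv (w : K) (a b : Bool) : K := cond a 1 0 + cond b w 0

theorem bv_xor {w : K} (hw : Omega w) (a b c d : Bool) : bv w (a ^^ c) (b ^^ d) = bv w a b + bv w c d := by
  have h1 : (1 : K) + 1 = 0 := by rw [one_add_one_eq_two]; exact hw.two
  have hww : w + w = 0 := by linear_combination w * hw.two
  cases a <;> cases b <;> cases c <;> cases d <;> simp [bv] <;>
    first | linear_combination (0 : K) | linear_combination -h1 | linear_combination -hww | linear_combination -h1 - hww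

theorem bv_mul {w : K} (hw : Omega w) (a b c d : Bool) :
    bv w ((a && c) ^^ (b && d)) (((a && d) ^^ (b && c)) ^^ (b && d)) = bv w a b * bv w c d := by
  cases a <;> cases b <;> cases c <;> cases d <;> simp [bv] <;>
    first
      | linear_combination (0 : K)
      | linear_combination -hw.sq
      | linear_combination -hw.sq - w * hw.two
      | linear_combination -hw.sq - hw.two
      | linear_combination -hw.sq - (w + 1) * hw.two

/-- An entry. -/
noncomputable def val (w : K) (P : ℕ × ℕ) (i j : ℕ) : K := bv w (P.1.testBit (78 * i + j)) (P.2.testBit (78 * i + j))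

theorem val_addP {w : K} (hw : Omega w) (P Q : ℕ × ℕ) (i j : ℕ) :
    val w (addP P Q) i j = val w P i j + val w Q i j := by
  show bv w ((P.1 ^^^ Q.1).testBit _) ((P.2 ^^^ Q.2).testBit _) = _
  rw [Nat.testBit_xor, Nat.testBit_xor]
  exact bv_xor hw _ _ _ _

theorem val_partP {w : K} (hw : Omega w) (P Q : ℕ × ℕ) {i j : ℕ} (hi : i < 78) (hj : j < 78) :
    ∀ n, val w (partP P Q n) i j = ∑ k ∈ Finset.range n, val w P i k * val w Q k j
  | 0 => by simp [partP, val, bv]
  | n + 1 => by
    rw [Finset.sum_range_succ, ← val_partP hw P Q hi hj n]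
    show val w (addP (partP P Q n) (outerA P Q n, outerB P Q n)) i j = _
    rw [val_addP hw]
    congr 1
    show bv w ((colBits P.1 n * rowBits Q.1 n ^^^ colBits P.2 n * rowBits Q.2 n).testBit _)
      ((colBits P.1 n * rowBits Q.2 n ^^^ colBits P.2 n * rowBits Q.1 n ^^^ colBits P.2 n * rowBits Q.2 n).testBit _) = _
    simp only [Nat.testBit_xor, testBit_outer hi hj]
    exact bv_mul hw _ _ _ _

/-- The number of a coordinate. -/
def code : chevE6.Idx → ℕ
  | Sum.inl i => i.val
  | Sum.inr u => 6 + u.val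

theorem code_lt (a : chevE6.Idx) : code a < 78 := by
  rcases a with i | u
  · have : i.val < 6 := i.2
    show i.val < 78; omega
  · have : u.val < 72 := u.2
    show 6 + u.val < 78; omega

theorem code_inj : Function.Injective code := by
  rintro (i | u) (j | v) h
  · exact congrArg _ (Fin.ext h)
  · have : i.val < 6 := i.2
    simp only [code] at h; omega
  · have : j.val < 6 := j.2
    simp only [code] at h; omega
  · simp only [code] at h; exact congrArg _ (Fin.ext (by omega))

theorem exists_code {n : ℕ} (hn : n < 78) : ∃ a, code a = n := by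
  by_cases h : n < 6
  · exact ⟨Sum.inl ⟨n, h⟩, rfl⟩
  · exact ⟨Sum.inr ⟨n - 6, show n - 6 < 72 by omega⟩, show 6 + (n - 6) = n by omega⟩

theorem sum_code {M : Type*} [AddCommMonoid M] (f : ℕ → M) :
    ∑ a : chevE6.Idx, f (code a) = ∑ k ∈ Finset.range 78, f k :=
  Finset.sum_bij (fun a _ => code a) (fun a _ => Finset.mem_range.2 (code_lt a)) (fun a _ b _ h => code_inj h)
    (fun k hk => by obtain ⟨a, ha⟩ := exists_code (Finset.mem_range.1 hk); exact ⟨a, Finset.mem_univ _, ha⟩)
    (fun _ _ => rfl)

/-- The matrix of a packed one. -/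
noncomputable def dec (w : K) (P : ℕ × ℕ) : Matrix chevE6.Idx chevE6.Idx K :=
  Matrix.of fun a b => val w P (code a) (code b)

theorem dec_mulP {w : K} (hw : Omega w) (P Q : ℕ × ℕ) : dec w (mulP P Q) = dec w P * dec w Q := by
  ext a b
  rw [Matrix.mul_apply]
  show val w (partP P Q 78) (code a) (code b) = _
  rw [val_partP hw P Q (code_lt a) (code_lt b), ← sum_code]
  rfl

theorem dec_addP {w : K} (hw : Omega w) (P Q : ℕ × ℕ) : dec w (addP P Q) = dec w P + dec w Q := by
  ext a b
  exact val_addP hw P Q _ _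

theorem one_check : forallFrom (fun i => forallFrom (fun j =>
    (Nat.beq (Nat.land (Nat.shiftRight oneP.1 (Nat.add (Nat.mul 78 i) j)) 1) (cond (Nat.beq i j) 1 0))) 0 78) 0 78 =
      true := by decide +kernel

theorem testBit_eq_beq (n m : ℕ) : n.testBit m = Nat.beq (Nat.land (Nat.shiftRight n m) 1) 1 := by
  show (1 &&& n >>> m != 0) = Nat.beq (n >>> m &&& 1) 1
  rw [Bool.eq_iff_iff, bne_iff_ne, Nat.beq_eq, Nat.and_comm, Nat.and_one_is_mod]
  omega

theorem dec_one (w : K) : dec w oneP = 1 := by
  ext a b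
  have h := Nat.eq_of_beq_eq_true
    (forallFrom_elim (forallFrom_elim one_check (Nat.zero_le (code a)) (by have := code_lt a; omega))
      (Nat.zero_le (code b)) (by have := code_lt b; omega))
  show bv w (oneP.1.testBit _) ((0 : ℕ).testBit _) = _
  rw [testBit_eq_beq oneP.1, show Nat.shiftRight oneP.1 (78 * code a + code b) =
    Nat.shiftRight oneP.1 (Nat.add (Nat.mul 78 (code a)) (code b)) from rfl, h, Matrix.one_apply]
  by_cases hab : a = b
  · subst hab; rw [Nat.beq_refl, if_pos rfl]; simp [bv]
  · rw [show Nat.beq (code a) (code b) = false from Bool.eq_false_iff.2 fun e => hab (code_inj (Nat.eq_of_beq_eq_true e)),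
      if_neg hab]
    simp [bv, show Nat.beq 0 1 = false from rfl]

theorem dec_evalP {w : K} (hw : Omega w) (M : ℕ → ℕ × ℕ) : ∀ u : List ℕ,
    dec w (evalP M u) = (u.map fun x => dec w (M x)).prod
  | [] => dec_one w
  | x :: u => by
    show dec w (mulP (M x) (evalP M u)) = _
    rw [dec_mulP hw, dec_evalP hw M u, List.map_cons, List.prod_cons]

end CfsgLib.Recog.TwE6Fi22
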