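import Cfsg.Agent.Lib.Recog.TwE6Fi22.Entries
import Cfsg.Agent.Lib.Recog.TwE6Fi22.Defs

set_option autoImplicit false
set_option maxRecDepth 20000
set_option Elab.async false

/-! The root element matrices are right (owner: helper22). -/

namespace CfsgLib.Recog.TwE6Fi22
open CfsgLib.ThreeTrans.CosetIndex (forallFrom)

theorem root_ok3 : forallFrom (fun k =>
    xOK (rootList.getD k (0, 0)).1 (rootList.getD k (0, 0)).2 (rootM k)) 15 5 = true := by decide +kernel

end CfsgLib.Recog.TwE6Fi22
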