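import Cfsg.Agent.Lib.Recog.SporBound.Check
import Cfsg.Agent.Lib.Recog.TwE6Fi22.RootCheck0
import Cfsg.Agent.Lib.Recog.TwE6Fi22.RootCheck1
import Cfsg.Agent.Lib.Recog.TwE6Fi22.RootCheck2
import Cfsg.Agent.Lib.Recog.TwE6Fi22.RootCheck3

set_option autoImplicit false
set_option maxRecDepth 20000

/-! The root element matrices are right (owner: helper22). -/

namespace CfsgLib.Recog.TwE6Fi22
open CfsgLib.ThreeTrans.CosetIndex (forallFrom)
open CfsgLib.Recog.SporBound (forallFrom_cat)

/-- A range of checks. -/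
noncomputable def rootFrom (lo len : ℕ) : Bool :=
  forallFrom (fun k => xOK (rootList.getD k (0, 0)).1 (rootList.getD k (0, 0)).2 (rootM k)) lo len

theorem root_ok : rootFrom 0 20 = true := by
  have h1 : rootFrom 0 10 = true := forallFrom_cat (l₁ := 5) (l₂ := 5) root_ok0 root_ok1 rfl rfl
  have h2 : rootFrom 0 15 = true := forallFrom_cat (l₁ := 10) (l₂ := 5) h1 root_ok2 rfl rfl
  exact forallFrom_cat (l₁ := 15) (l₂ := 5) h2 root_ok3 rfl rfl

end CfsgLib.Recog.TwE6Fi22
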